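import Mathlib
import Groth.Prelude.Def_Fitting
import Groth.Agent.Lib.Helper3.AffinePoints

/-!
# A norm for finite locally free morphisms of constant degree (helper16)

For `π : X ⟶ Y` finite, flat, locally of finite presentation we glue `Algebra.norm` over the affine opens
`V ⊆ Y` such that `Γ(X, π⁻¹V)` is a free `Γ(Y, V)`-module ("good" opens).
-/

set_option autoImplicit false
universe u
open CategoryTheory CategoryTheory.Limits AlgebraicGeometry TopologicalSpace Opposite

namespace H16FNorm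

/-! ### Algebra -/

section Alg

attribute [local instance] RingHomInvPair.of_ringEquiv in
theorem free_of_isLocalizedModule {R : Type*} [CommRing R] (S : Submonoid R) {M M' : Type*}
    [AddCommGroup M] [Module R M] [AddCommGroup M'] [Module R M'] (f : M →ₗ[R] M')
    [IsLocalizedModule S f]
    (Rₛ : Type*) [CommRing Rₛ] [Algebra R Rₛ] [IsLocalization S Rₛ] [Module Rₛ M']
    [IsScalarTower R Rₛ M']
    [Module.Free (Localization S) (LocalizedModule S M)] : Module.Free Rₛ M' := by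
  set e := (IsLocalization.algEquiv S (Localization S) Rₛ).toRingEquiv
  refine (Module.Free.iff_of_equiv (M := LocalizedModule S M) (σ := (e : Localization S →+* Rₛ))
    (σ' := (e.symm : Rₛ →+* Localization S)) ?_).mp inferInstance
  refine { __ := IsLocalizedModule.iso S f, map_smul' := ?_ }
  intro r x
  obtain ⟨r, s, rfl⟩ := IsLocalization.exists_mk'_eq S r
  apply ((Module.End.isUnit_iff _).mp (IsLocalizedModule.map_units f s)).1
  simp [e, ← map_smul, ← smul_assoc]

variable {R S Rm Sm : Type*} [CommRing R] [CommRing S] [CommRing Rm] [CommRing Sm]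
  [Algebra R S] [Algebra Rm Sm] [Algebra R Rm] [Algebra S Sm]

theorem alg_norm
    (hsq : (algebraMap Rm Sm).comp (algebraMap R Rm) = (algebraMap S Sm).comp (algebraMap R S))
    (r : R) [IsLocalization.Away r Rm] [IsLocalization.Away (algebraMap R S r) Sm]
    [Module.Free R S] [Module.Finite R S] :
    Module.Free Rm Sm ∧ Module.Finite Rm Sm ∧
      ∀ a : S, Algebra.norm Rm (algebraMap S Sm a) = algebraMap R Rm (Algebra.norm R a) := by
  letI : Algebra R Sm := ((algebraMap S Sm).comp (algebraMap R S)).toAlgebra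
  haveI : IsScalarTower R S Sm := IsScalarTower.of_algebraMap_eq' rfl
  haveI : IsScalarTower R Rm Sm := IsScalarTower.of_algebraMap_eq' hsq.symm
  haveI : IsLocalization (Submonoid.powers r) Rm := ‹IsLocalization.Away r Rm›
  haveI : IsLocalization (Algebra.algebraMapSubmonoid S (Submonoid.powers r)) Sm := by
    rw [Algebra.algebraMapSubmonoid_powers]
    exact ‹IsLocalization.Away (algebraMap R S r) Sm›
  let b := Module.Free.chooseBasis R S
  refine ⟨Module.Free.of_basis (b.localizationLocalization Rm (Submonoid.powers r) Sm),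
    Module.Finite.of_basis (b.localizationLocalization Rm (Submonoid.powers r) Sm), fun a => ?_⟩
  exact Algebra.norm_localization R (Submonoid.powers r) a

theorem alg_free_of_localized
    (hsq : (algebraMap Rm Sm).comp (algebraMap R Rm) = (algebraMap S Sm).comp (algebraMap R S))
    (r : R) [IsLocalization.Away r Rm] [IsLocalization.Away (algebraMap R S r) Sm]
    [Module.Free (Localization (Submonoid.powers r)) (LocalizedModule.Away r S)] :
    Module.Free Rm Sm := by
  letI : Algebra R Sm := ((algebraMap S Sm).comp (algebraMap R S)).toAlgebra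
  haveI : IsScalarTower R S Sm := IsScalarTower.of_algebraMap_eq' rfl
  haveI : IsScalarTower R Rm Sm := IsScalarTower.of_algebraMap_eq' hsq.symm
  haveI : IsLocalization (Submonoid.powers r) Rm := ‹IsLocalization.Away r Rm›
  haveI : IsLocalization (Algebra.algebraMapSubmonoid S (Submonoid.powers r)) Sm := by
    rw [Algebra.algebraMapSubmonoid_powers]
    exact ‹IsLocalization.Away (algebraMap R S r) Sm›
  exact free_of_isLocalizedModule (Submonoid.powers r)
    (IsScalarTower.toAlgHom R S Sm).toLinearMap Rm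

theorem isUnit_of_isUnit_norm [Module.Free R S] [Module.Finite R S] (b : S)
    (h : IsUnit (Algebra.norm R b)) : IsUnit b := by
  have h1 : IsUnit (LinearMap.det (Algebra.lmul R S b)) := h
  have h2 := (LinearMap.isUnit_iff_isUnit_det _).mpr h1
  have h3 := (Module.End.isUnit_iff _).mp h2
  obtain ⟨c, hc⟩ := h3.2 1
  have hc' : b * c = 1 := hc
  exact ⟨⟨b, c, hc', by rw [mul_comm]; exact hc'⟩, rfl⟩

end Alg

/-! ### Good opens -/

variable {X Y : Scheme.{u}} (π : X ⟶ Y)

/-- `Γ(X, π⁻¹V)` as an algebra over `Γ(Y, V)`. -/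
@[reducible] noncomputable def alg (V : Y.Opens) : Algebra Γ(Y, V) Γ(X, π ⁻¹ᵁ V) :=
  (π.app V).hom.toAlgebra

/-- An affine open `V` of `Y` over which `π_* O_X` is free. -/
structure Good (V : Y.Opens) : Prop where
  affine : IsAffineOpen V
  free : letI := alg π V; Module.Free Γ(Y, V) Γ(X, π ⁻¹ᵁ V)
  finite : letI := alg π V; Module.Finite Γ(Y, V) Γ(X, π ⁻¹ᵁ V)

/-- The norm over `V`. -/
noncomputable def nrm (V : Y.Opens) : Γ(X, π ⁻¹ᵁ V) →* Γ(Y, V) :=
  letI := alg π V
  Algebra.norm Γ(Y, V)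

theorem basic_core [IsAffineHom π] {V W : Y.Opens} (hV : IsAffineOpen V) (r : Γ(Y, V)) (j : W ⟶ V)
    (e : W = Y.basicOpen r) :
    letI := alg π V
    letI := alg π W
    ((Module.Free Γ(Y, V) Γ(X, π ⁻¹ᵁ V) → Module.Finite Γ(Y, V) Γ(X, π ⁻¹ᵁ V) →
      (Module.Free Γ(Y, W) Γ(X, π ⁻¹ᵁ W) ∧ Module.Finite Γ(Y, W) Γ(X, π ⁻¹ᵁ W) ∧
        ∀ a : Γ(X, π ⁻¹ᵁ V), nrm π W (X.presheaf.map ((Opens.map π.base).map j).op a) =
          Y.presheaf.map j.op (nrm π V a))) ∧
     (Module.Free (Localization (Submonoid.powers r)) (LocalizedModule.Away r Γ(X, π ⁻¹ᵁ V)) →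
        Module.Free Γ(Y, W) Γ(X, π ⁻¹ᵁ W))) := by
  have hπV : IsAffineOpen (π ⁻¹ᵁ V) := hV.preimage π
  letI : Algebra Γ(Y, V) Γ(X, π ⁻¹ᵁ V) := alg π V
  letI : Algebra Γ(Y, W) Γ(X, π ⁻¹ᵁ W) := alg π W
  letI : Algebra Γ(Y, V) Γ(Y, W) := (Y.presheaf.map j.op).hom.toAlgebra
  letI : Algebra Γ(X, π ⁻¹ᵁ V) Γ(X, π ⁻¹ᵁ W) :=
    (X.presheaf.map ((Opens.map π.base).map j).op).hom.toAlgebra
  haveI : IsLocalization.Away r Γ(Y, W) := hV.isLocalization_of_eq_basicOpen r j e
  haveI : IsLocalization.Away (algebraMap Γ(Y, V) Γ(X, π ⁻¹ᵁ V) r) Γ(X, π ⁻¹ᵁ W) :=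
    hπV.isLocalization_of_eq_basicOpen (π.app V r) ((Opens.map π.base).map j)
      (by rw [e, Scheme.preimage_basicOpen])
  have hsq : (algebraMap Γ(Y, W) Γ(X, π ⁻¹ᵁ W)).comp (algebraMap Γ(Y, V) Γ(Y, W)) =
      (algebraMap Γ(X, π ⁻¹ᵁ V) Γ(X, π ⁻¹ᵁ W)).comp (algebraMap Γ(Y, V) Γ(X, π ⁻¹ᵁ V)) := by
    have := π.naturality j.op
    exact congrArg CommRingCat.Hom.hom this
  refine ⟨fun hf hfin => ?_, fun hf => ?_⟩
  · haveI := hf
    haveI := hfin
    obtain ⟨h1, h2, h3⟩ := alg_norm hsq r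
    exact ⟨h1, h2, fun a => h3 a⟩
  · haveI := hf
    exact alg_free_of_localized hsq r

theorem nrm_res_basic [IsAffineHom π] {V W : Y.Opens} (hV : Good π V) (r : Γ(Y, V)) (j : W ⟶ V)
    (e : W = Y.basicOpen r) (a : Γ(X, π ⁻¹ᵁ V)) :
    nrm π W (X.presheaf.map ((Opens.map π.base).map j).op a) = Y.presheaf.map j.op (nrm π V a) ∧
      Good π W := by
  obtain ⟨h1, h2, h3⟩ := (basic_core π hV.affine r j e).1 hV.free hV.finite
  refine ⟨h3 a, ⟨?_, h1, h2⟩⟩
  rw [e]
  exact hV.affine.basicOpen r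

theorem isUnit_of_isUnit_nrm {W : Y.Opens} (hW : Good π W) (b : Γ(X, π ⁻¹ᵁ W))
    (h : IsUnit (nrm π W b)) : IsUnit b := by
  letI := alg π W
  haveI := hW.free
  haveI := hW.finite
  exact isUnit_of_isUnit_norm b h

section

variable [IsFinite π] [Flat π] [LocallyOfFinitePresentation π]

theorem exists_good {U : Y.Opens} {y : Y} (hy : y ∈ U) :
    ∃ V : Y.Opens, Good π V ∧ y ∈ V ∧ V ≤ U := by
  obtain ⟨_, ⟨V₀, hV₀ : IsAffineOpen V₀, rfl⟩, hyV₀, hV₀U⟩ :=
    Y.isBasis_affineOpens.exists_subset_of_mem_open hy U.isOpen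
  have hπV₀ : IsAffineOpen (π ⁻¹ᵁ V₀) := hV₀.preimage π
  letI := alg π V₀
  haveI hfin : Module.Finite Γ(Y, V₀) Γ(X, π ⁻¹ᵁ V₀) := π.finite_app V₀ hV₀
  haveI hflat : Module.Flat Γ(Y, V₀) Γ(X, π ⁻¹ᵁ V₀) := by
    have := π.flat_appLE hV₀ hπV₀ le_rfl
    rwa [← Scheme.Hom.app_eq_appLE] at this
  haveI hfp : Algebra.FinitePresentation Γ(Y, V₀) Γ(X, π ⁻¹ᵁ V₀) := by
    have := π.finitePresentation_appLE hV₀ hπV₀ le_rfl
    rwa [← Scheme.Hom.app_eq_appLE] at this
  haveI : Module.FinitePresentation Γ(Y, V₀) Γ(X, π ⁻¹ᵁ V₀) :=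
    Module.FinitePresentation.of_finite_of_finitePresentation _ _
  let p := hV₀.primeIdealOf ⟨y, hyV₀⟩
  haveI : Module.Free (Localization.AtPrime p.asIdeal)
      (LocalizedModule p.asIdeal.primeCompl Γ(X, π ⁻¹ᵁ V₀)) :=
    Module.free_of_flat_of_isLocalRing
  obtain ⟨r, hr, hfree, -⟩ := Module.FinitePresentation.exists_free_localizedModule_powers
    p.asIdeal.primeCompl (LocalizedModule.mkLinearMap p.asIdeal.primeCompl Γ(X, π ⁻¹ᵁ V₀))
    (Localization.AtPrime p.asIdeal)
  have hW : IsAffineOpen (Y.basicOpen r) := hV₀.basicOpen r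
  refine ⟨Y.basicOpen r, ⟨hW, ?_, π.finite_app _ hW⟩, ?_, (Y.basicOpen_le r).trans hV₀U⟩
  · exact (basic_core π hV₀ r (homOfLE (Y.basicOpen_le r)) rfl).2 hfree
  · exact (Groth.Agent.Lib.Helper3.mem_basicOpen_iff_notMem_primeIdealOf hV₀ y hyV₀ r).mpr hr

theorem finrank_eq {d : ℕ} (hd : ∀ y, π.finrank y = d) {V : Y.Opens} (hV : Good π V)
    [Nontrivial Γ(Y, V)] :
    letI := alg π V
    Module.finrank Γ(Y, V) Γ(X, π ⁻¹ᵁ V) = d := by
  letI := alg π V
  haveI := hV.free
  have hπV : IsAffineOpen (π ⁻¹ᵁ V) := hV.affine.preimage π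
  have hfin : (π.app V).hom.Finite := π.finite_app V hV.affine
  have hflat : (π.app V).hom.Flat := by
    have := π.flat_appLE hV.affine hπV le_rfl
    rwa [← Scheme.Hom.app_eq_appLE] at this
  have hpb : IsPullback (Spec.map (π.app V)) hπV.fromSpec hV.affine.fromSpec π := by
    refine IsOpenImmersion.isPullback _ _ _ _ ?_ ?_
    · have := hV.affine.SpecMap_appLE_fromSpec π hπV le_rfl
      rw [← Scheme.Hom.app_eq_appLE] at this
      exact this.symm
    · rw [hV.affine.opensRange_fromSpec, hπV.opensRange_fromSpec]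
  obtain ⟨p⟩ := (inferInstance : Nonempty (PrimeSpectrum Γ(Y, V)))
  have h1 := Scheme.Hom.finrank_of_isPullback hπV.fromSpec (Spec.map (π.app V)) π
    hV.affine.fromSpec hpb.flip p
  rw [hd, Scheme.Hom.finrank_SpecMap_eq_finrank hfin hflat] at h1
  have h2 : (π.app V).hom.finrank p = Module.finrank Γ(Y, V) Γ(X, π ⁻¹ᵁ V) := by
    change Module.rankAtStalk (R := Γ(Y, V)) Γ(X, π ⁻¹ᵁ V) p = _
    rw [Module.rankAtStalk_eq_finrank_of_free]
    rfl
  exact h2.symm.trans h1

theorem germ_nrm_eq {U V₁ V₂ : Y.Opens} (h₁ : Good π V₁) (h₂ : Good π V₂) (i₁ : V₁ ⟶ U)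
    (i₂ : V₂ ⟶ U) (s : Γ(X, π ⁻¹ᵁ U)) (y : Y) (hy₁ : y ∈ V₁) (hy₂ : y ∈ V₂) :
    Y.presheaf.germ V₁ y hy₁ (nrm π V₁ (X.presheaf.map ((Opens.map π.base).map i₁).op s)) =
    Y.presheaf.germ V₂ y hy₂ (nrm π V₂ (X.presheaf.map ((Opens.map π.base).map i₂).op s)) := by
  obtain ⟨f, g, e, hyf⟩ := exists_basicOpen_le_affine_inter h₁.affine h₂.affine y ⟨hy₁, hy₂⟩
  let j₁ : Y.basicOpen f ⟶ V₁ := homOfLE (Y.basicOpen_le f)
  let j₂ : Y.basicOpen f ⟶ V₂ := homOfLE (e ▸ Y.basicOpen_le g)
  have hres : X.presheaf.map ((Opens.map π.base).map j₁).op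
        (X.presheaf.map ((Opens.map π.base).map i₁).op s) =
      X.presheaf.map ((Opens.map π.base).map j₂).op
        (X.presheaf.map ((Opens.map π.base).map i₂).op s) := by
    rw [← CommRingCat.comp_apply, ← CommRingCat.comp_apply, ← Functor.map_comp,
      ← Functor.map_comp]
    rfl
  have e1 := (nrm_res_basic π h₁ f j₁ rfl (X.presheaf.map ((Opens.map π.base).map i₁).op s)).1
  have e2 := (nrm_res_basic π h₂ g j₂ e (X.presheaf.map ((Opens.map π.base).map i₂).op s)).1
  rw [hres] at e1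
  have e3 := e1.symm.trans e2
  have g1 := TopCat.Presheaf.germ_res_apply Y.presheaf j₁ y hyf
    (nrm π V₁ (X.presheaf.map ((Opens.map π.base).map i₁).op s))
  have g2 := TopCat.Presheaf.germ_res_apply Y.presheaf j₂ y hyf
    (nrm π V₂ (X.presheaf.map ((Opens.map π.base).map i₂).op s))
  rw [← g1, ← g2, e3]

/-- Good opens inside `U`. -/
def GoodIn (U : Y.Opens) : Type u := {V : Y.Opens // Good π V ∧ V ≤ U}

theorem exists_glue (U : Y.Opens) (s : Γ(X, π ⁻¹ᵁ U)) :
    ∃ t : Γ(Y, U), ∀ (V : Y.Opens) (_ : Good π V) (i : V ⟶ U),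
      Y.presheaf.map i.op t = nrm π V (X.presheaf.map ((Opens.map π.base).map i).op s) := by
  let Vs : GoodIn π U → Y.Opens := fun V => V.1
  let sf : ∀ V : GoodIn π U, Γ(Y, Vs V) := fun V =>
    nrm π V.1 (X.presheaf.map ((Opens.map π.base).map (homOfLE V.2.2)).op s)
  have hcompat : TopCat.Presheaf.IsCompatible Y.presheaf Vs sf := by
    intro V₁ V₂
    refine TopCat.Presheaf.section_ext Y.sheaf (Vs V₁ ⊓ Vs V₂) _ _ fun y hy => ?_
    change Y.presheaf.germ (Vs V₁ ⊓ Vs V₂) y hy (Y.presheaf.map (Opens.infLELeft _ _).op (sf V₁)) =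
      Y.presheaf.germ (Vs V₁ ⊓ Vs V₂) y hy (Y.presheaf.map (Opens.infLERight _ _).op (sf V₂))
    rw [TopCat.Presheaf.germ_res_apply, TopCat.Presheaf.germ_res_apply]
    exact germ_nrm_eq π V₁.2.1 V₂.2.1 _ _ s y hy.1 hy.2
  obtain ⟨t, ht, -⟩ := Y.sheaf.existsUnique_gluing' Vs U (fun V => homOfLE V.2.2)
    (fun y hy => by
      obtain ⟨V, hV, hyV, hVU⟩ := exists_good π hy
      exact Opens.mem_iSup.mpr ⟨⟨V, hV, hVU⟩, hyV⟩) sf hcompat
  exact ⟨t, fun V hV i => ht ⟨V, hV, i.le⟩⟩

/-- The glued norm. -/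
noncomputable def glued (U : Y.Opens) (s : Γ(X, π ⁻¹ᵁ U)) : Γ(Y, U) := (exists_glue π U s).choose

theorem glued_spec (U : Y.Opens) (s : Γ(X, π ⁻¹ᵁ U)) (V : Y.Opens) (hV : Good π V) (i : V ⟶ U) :
    Y.presheaf.map i.op (glued π U s) =
      nrm π V (X.presheaf.map ((Opens.map π.base).map i).op s) :=
  (exists_glue π U s).choose_spec V hV i

theorem eq_of_good (U : Y.Opens) (t t' : Γ(Y, U))
    (h : ∀ (V : Y.Opens) (_ : Good π V) (i : V ⟶ U), Y.presheaf.map i.op t = Y.presheaf.map i.op t') :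
    t = t' := by
  refine TopCat.Sheaf.eq_of_locally_eq' Y.sheaf (fun V : GoodIn π U => V.1) U
    (fun V => homOfLE V.2.2) (fun y hy => ?_) t t' (fun V => h V.1 V.2.1 _)
  obtain ⟨V, hV, hyV, hVU⟩ := exists_good π hy
  exact Opens.mem_iSup.mpr ⟨⟨V, hV, hVU⟩, hyV⟩

theorem glued_unique (U : Y.Opens) (s : Γ(X, π ⁻¹ᵁ U)) (t : Γ(Y, U))
    (h : ∀ (V : Y.Opens) (_ : Good π V) (i : V ⟶ U),
      Y.presheaf.map i.op t = nrm π V (X.presheaf.map ((Opens.map π.base).map i).op s)) :
    t = glued π U s :=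
  eq_of_good π U _ _ fun V hV i => (h V hV i).trans (glued_spec π U s V hV i).symm

theorem glued_mem (U : Y.Opens) (s : Γ(X, π ⁻¹ᵁ U)) (x : X) (hx : π.base x ∈ U)
    (hs : X.presheaf.germ (π ⁻¹ᵁ U) x hx s ∈ IsLocalRing.maximalIdeal (X.presheaf.stalk x)) :
    Y.presheaf.germ U (π.base x) hx (glued π U s) ∈
      IsLocalRing.maximalIdeal (Y.presheaf.stalk (π.base x)) := by
  rw [IsLocalRing.mem_maximalIdeal, mem_nonunits_iff] at hs ⊢
  intro hu
  apply hs
  obtain ⟨V, hV, hyV, hVU⟩ := exists_good π hx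
  let i : V ⟶ U := homOfLE hVU
  have ht' := glued_spec π U s V hV i
  have hu' : IsUnit (Y.presheaf.germ V (π.base x) hyV
      (nrm π V (X.presheaf.map ((Opens.map π.base).map i).op s))) := by
    rw [← ht', TopCat.Presheaf.germ_res_apply]
    exact hu
  have hyW : π.base x ∈ Y.basicOpen (nrm π V (X.presheaf.map ((Opens.map π.base).map i).op s)) :=
    (Y.mem_basicOpen _ (π.base x) hyV).mpr hu'
  let j : Y.basicOpen (nrm π V (X.presheaf.map ((Opens.map π.base).map i).op s)) ⟶ V :=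
    homOfLE (Y.basicOpen_le _)
  obtain ⟨hn, hW⟩ := nrm_res_basic π hV _ j rfl (X.presheaf.map ((Opens.map π.base).map i).op s)
  have hunit : IsUnit (nrm π _ (X.presheaf.map ((Opens.map π.base).map j).op
      (X.presheaf.map ((Opens.map π.base).map i).op s))) := by
    rw [hn]
    exact Y.toRingedSpace.isUnit_res_basicOpen _
  have hb := isUnit_of_isUnit_nrm π hW _ hunit
  have hxW : x ∈ π ⁻¹ᵁ Y.basicOpen (nrm π V (X.presheaf.map ((Opens.map π.base).map i).op s)) := hyW
  have h5 := hb.map (X.presheaf.germ _ x hxW).hom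
  have h6 := TopCat.Presheaf.germ_res_apply X.presheaf ((Opens.map π.base).map j) x hxW
    (X.presheaf.map ((Opens.map π.base).map i).op s)
  have h7 := TopCat.Presheaf.germ_res_apply X.presheaf ((Opens.map π.base).map i) x
    (j.le hyW) s
  have h8 : (X.presheaf.germ _ x hxW).hom (X.presheaf.map ((Opens.map π.base).map j).op
      (X.presheaf.map ((Opens.map π.base).map i).op s)) = X.presheaf.germ (π ⁻¹ᵁ U) x hx s :=
    h6.trans h7
  rw [h8] at h5
  exact h5

/-- The glued norm as a monoid homomorphism. -/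
noncomputable def gluedHom (U : Y.Opens) : Γ(X, π ⁻¹ᵁ U) →* Γ(Y, U) where
  toFun := glued π U
  map_one' := by
    refine (glued_unique π U 1 1 fun V hV i => ?_).symm
    rw [map_one, map_one, map_one]
  map_mul' := by
    intro s s'
    refine (glued_unique π U (s * s') (glued π U s * glued π U s') fun V hV i => ?_).symm
    rw [map_mul, glued_spec π U s V hV i, glued_spec π U s' V hV i, map_mul, map_mul]

theorem glued_res {U V : Y.Opens} (i : V ⟶ U) (s : Γ(X, π ⁻¹ᵁ U)) :
    Y.presheaf.map i.op (glued π U s) =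
      glued π V (X.presheaf.map ((Opens.map π.base).map i).op s) := by
  refine glued_unique π V _ _ fun W hW j => ?_
  have h1 : Y.presheaf.map j.op (Y.presheaf.map i.op (glued π U s)) =
      Y.presheaf.map (j ≫ i).op (glued π U s) := by
    rw [← CommRingCat.comp_apply, ← Functor.map_comp]
    rfl
  have h2 : X.presheaf.map ((Opens.map π.base).map j).op
      (X.presheaf.map ((Opens.map π.base).map i).op s) =
      X.presheaf.map ((Opens.map π.base).map (j ≫ i)).op s := by
    rw [← CommRingCat.comp_apply, ← Functor.map_comp]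
    rfl
  exact h1.trans ((glued_spec π U s W hW (j ≫ i)).trans (congrArg _ h2.symm))

/-- **The norm of a finite locally free morphism of constant degree.** -/
noncomputable def normOfDegree {d : ℕ} (hd1 : 1 ≤ d) (hd : ∀ y, π.finrank y = d) :
    Nrm.NormOfDegree π d where
  one_le := hd1
  norm U :=
    { toFun := glued π U
      map_one' := by
        refine (glued_unique π U 1 1 fun V hV i => ?_).symm
        rw [map_one, map_one, map_one]
      map_mul' := by
        intro s s'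
        refine (glued_unique π U (s * s') (glued π U s * glued π U s') fun V hV i => ?_).symm
        rw [map_mul, glued_spec π U s V hV i, glued_spec π U s' V hV i, map_mul, map_mul] }
  norm_res := by
    intro U V i s
    refine glued_unique π V _ _ fun W hW j => ?_
    have h1 : Y.presheaf.map j.op (Y.presheaf.map i.op (glued π U s)) =
        Y.presheaf.map (j ≫ i).op (glued π U s) := by
      rw [← CommRingCat.comp_apply, ← Functor.map_comp]
      rfl
    have h2 : X.presheaf.map ((Opens.map π.base).map j).op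
        (X.presheaf.map ((Opens.map π.base).map i).op s) =
        X.presheaf.map ((Opens.map π.base).map (j ≫ i)).op s := by
      rw [← CommRingCat.comp_apply, ← Functor.map_comp]
      rfl
    exact h1.trans ((glued_spec π U s W hW (j ≫ i)).trans (congrArg _ h2.symm))
  norm_app := by
    intro U g
    refine (glued_unique π U _ (g ^ d) fun V hV i => ?_).symm
    have h1 : X.presheaf.map ((Opens.map π.base).map i).op (π.app U g) =
        π.app V (Y.presheaf.map i.op g) :=
      (ConcreteCategory.congr_hom (π.naturality i.op) g).symm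
    rw [h1, map_pow]
    letI := alg π V
    haveI := hV.free
    rcases subsingleton_or_nontrivial Γ(Y, V) with hsub | hnt
    · exact Subsingleton.elim _ _
    · have h2 : nrm π V (π.app V (Y.presheaf.map i.op g)) =
          (Y.presheaf.map i.op g) ^ Module.finrank Γ(Y, V) Γ(X, π ⁻¹ᵁ V) :=
        Algebra.norm_algebraMap (Y.presheaf.map i.op g)
      rw [h2, finrank_eq π hd hV]
  norm_mem := by
    intro U s x hx hs
    exact glued_mem π U s x hx hs

end

end H16FNorm
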