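import Mathlib
import Groth.Prelude.Def_Fitting

/-!
# Quasi-affineness descends along finite surjective morphisms with a (weak) norm (helper16)

No Chevalley-type theorem is needed: `Y_{N(h)}` is a basic open of a given affine open of `Y`.
-/

set_option autoImplicit false
universe u
open CategoryTheory CategoryTheory.Limits AlgebraicGeometry TopologicalSpace Opposite

namespace H16QAff

variable {X Y : Scheme.{u}}

/-- A multiplicative family `Γ(X, π⁻¹U) → Γ(Y, U)` compatible with restriction and preserving vanishing. -/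
structure WeakNorm (π : X ⟶ Y) where
  norm : ∀ U : Y.Opens, Γ(X, π ⁻¹ᵁ U) →* Γ(Y, U)
  norm_res : ∀ {U V : Y.Opens} (i : V ⟶ U) (s : Γ(X, π ⁻¹ᵁ U)),
    Y.presheaf.map i.op (norm U s) = norm V (X.presheaf.map ((Opens.map π.base).map i).op s)
  norm_mem : ∀ (U : Y.Opens) (s : Γ(X, π ⁻¹ᵁ U)) (x : X) (hx : π.base x ∈ U),
    X.presheaf.germ (π ⁻¹ᵁ U) x hx s ∈ IsLocalRing.maximalIdeal (X.presheaf.stalk x) →
      Y.presheaf.germ U (π.base x) hx (norm U s) ∈ IsLocalRing.maximalIdeal (Y.presheaf.stalk (π.base x))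

/-- Forget the degree. -/
def WeakNorm.ofNorm {π : X ⟶ Y} {d : ℕ} (N : Nrm.NormOfDegree π d) : WeakNorm π where
  norm := N.norm
  norm_res := N.norm_res
  norm_mem := N.norm_mem

theorem subsingleton_of_forall_notMem (W : X.Opens) (h : ∀ x, x ∉ W) : Subsingleton Γ(X, W) := by
  obtain rfl : W = ⊥ := by
    ext x
    simp only [Opens.coe_bot, Set.mem_empty_iff_false, iff_false]
    exact h x
  infer_instance

theorem surjective_of_norm (π : X ⟶ Y) [IsFinite π] {d : ℕ} (N : Nrm.NormOfDegree π d) :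
    Surjective π := by
  refine ⟨fun y => ?_⟩
  by_contra hy
  have hcl : IsClosed (Set.range π.base) := by
    rw [← Set.image_univ]
    exact π.isClosedMap _ isClosed_univ
  let V' : Y.Opens := ⟨(Set.range π.base)ᶜ, hcl.isOpen_compl⟩
  have hyV' : y ∈ V' := hy
  haveI : Subsingleton Γ(X, π ⁻¹ᵁ V') :=
    subsingleton_of_forall_notMem _ fun x hx => hx ⟨x, rfl⟩
  have h1 := N.norm_app V' 0
  have h2 : π.app V' 0 = 1 := Subsingleton.elim _ _
  rw [h2, map_one, zero_pow (by have := N.one_le; omega)] at h1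
  have h3 := congrArg (Y.presheaf.germ V' y hyV').hom h1
  rw [map_one, map_zero] at h3
  exact one_ne_zero h3

theorem exists_basicOpen_between (X : Scheme.{u}) [X.IsQuasiAffine] (W : X.Opens) (F : Set X)
    (hF : F.Finite) (hFW : F ⊆ W) :
    ∃ h : Γ(X, ⊤), F ⊆ X.basicOpen h ∧ X.basicOpen h ≤ W := by
  classical
  rcases F.eq_empty_or_nonempty with rfl | ⟨x₀, hx₀⟩
  · refine ⟨0, Set.empty_subset _, ?_⟩
    rw [Scheme.basicOpen_zero]
    exact bot_le
  let S : Set (PrimeSpectrum Γ(X, ⊤)) := X.toSpecΓ.base '' (W : Set X)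
  have hopen : IsOpen S := X.toSpecΓ.isOpenEmbedding.isOpenMap _ W.isOpen
  let I : Ideal Γ(X, ⊤) := PrimeSpectrum.vanishingIdeal Sᶜ
  have hz : PrimeSpectrum.zeroLocus (I : Set Γ(X, ⊤)) = Sᶜ := by
    rw [PrimeSpectrum.zeroLocus_vanishingIdeal_eq_closure]
    exact hopen.isClosed_compl.closure_eq
  have hI : ∀ p : PrimeSpectrum Γ(X, ⊤), I ≤ p.asIdeal ↔ p ∉ S := by
    intro p
    constructor
    · intro hle hp
      have h1 : p ∈ PrimeSpectrum.zeroLocus (I : Set Γ(X, ⊤)) :=
        (PrimeSpectrum.mem_zeroLocus p _).mpr hle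
      rw [hz] at h1
      exact h1 hp
    · intro hp
      have h1 : p ∈ PrimeSpectrum.zeroLocus (I : Set Γ(X, ⊤)) := by
        rw [hz]
        exact hp
      exact (PrimeSpectrum.mem_zeroLocus p _).mp h1
  have hex : ∃ h ∈ I, ∀ x ∈ F, h ∉ (X.toSpecΓ.base x).asIdeal := by
    by_contra hcon
    push Not at hcon
    have hsub : (I : Set Γ(X, ⊤)) ⊆ ⋃ x ∈ (↑hF.toFinset : Set X),
        ((X.toSpecΓ.base x).asIdeal : Set Γ(X, ⊤)) := by
      intro h hh
      obtain ⟨x, hx, hxh⟩ := hcon h hh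
      exact Set.mem_iUnion₂.mpr ⟨x, Finset.mem_coe.mpr (hF.mem_toFinset.mpr hx), hxh⟩
    obtain ⟨x, hx, hle⟩ := (Ideal.subset_union_prime (s := hF.toFinset)
      (f := fun x => (X.toSpecΓ.base x).asIdeal) x₀ x₀
      (fun x _ _ _ => (X.toSpecΓ.base x).isPrime)).mp hsub
    exact (hI (X.toSpecΓ.base x)).mp hle ⟨x, hFW (hF.mem_toFinset.mp hx), rfl⟩
  obtain ⟨h, hhI, hnot⟩ := hex
  refine ⟨h, fun x hx => ?_, fun x hx => ?_⟩
  · rw [← X.toSpecΓ_preimage_basicOpen h]
    exact hnot x hx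
  · rw [← X.toSpecΓ_preimage_basicOpen h] at hx
    have h1 : ¬ I ≤ (X.toSpecΓ.base x).asIdeal := fun hle => hx (hle hhI)
    rw [hI (X.toSpecΓ.base x), not_not] at h1
    obtain ⟨x', hx', hxx'⟩ := h1
    rwa [← X.toSpecΓ.isOpenEmbedding.injective hxx']

theorem isQuasiAffine_of_weakNorm (π : X ⟶ Y) [IsFinite π] [Surjective π] (N : WeakNorm π)
    [X.IsQuasiAffine] : Y.IsQuasiAffine := by
  haveI : CompactSpace Y := ⟨by
    have := (isCompact_univ (X := X)).image π.continuous
    rwa [Set.image_univ, π.surjective.range_eq] at this⟩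
  refine Scheme.IsQuasiAffine.of_forall_exists_mem_basicOpen Y fun y => ?_
  obtain ⟨_, ⟨V, hV : IsAffineOpen V, rfl⟩, hyV, -⟩ :=
    Y.isBasis_affineOpens.exists_subset_of_mem_open (Set.mem_univ y) isOpen_univ
  have hfin : (π.base ⁻¹' {y}).Finite := π.finite_preimage_singleton y
  obtain ⟨h, hFh, hhV⟩ := exists_basicOpen_between X (π ⁻¹ᵁ V) (π.base ⁻¹' {y}) hfin
    (fun x hx => by
      show π.base x ∈ V
      rw [show π.base x = y from hx]
      exact hyV)
  let h' : Γ(X, π ⁻¹ᵁ ⊤) := h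
  let g : Γ(Y, ⊤) := N.norm ⊤ h'
  have hA : ∀ x : X, π.base x ∈ Y.basicOpen g → x ∈ X.basicOpen h := by
    intro x hx
    by_contra hxh
    have h1 : X.presheaf.germ (π ⁻¹ᵁ ⊤) x trivial h' ∈
        IsLocalRing.maximalIdeal (X.presheaf.stalk x) := by
      rw [IsLocalRing.mem_maximalIdeal, mem_nonunits_iff]
      intro hu
      exact hxh ((X.mem_basicOpen h x trivial).mpr hu)
    have h2 := N.norm_mem ⊤ h' x trivial h1
    rw [IsLocalRing.mem_maximalIdeal, mem_nonunits_iff] at h2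
    exact h2 ((Y.mem_basicOpen g (π.base x) trivial).mp hx)
  have hB : y ∈ Y.basicOpen g := by
    have hCclosed : IsClosed ((X.basicOpen h : Set X)ᶜ) := (X.basicOpen h).isOpen.isClosed_compl
    have hπC : IsClosed (π.base '' (X.basicOpen h : Set X)ᶜ) := π.isClosedMap _ hCclosed
    let V' : Y.Opens := ⟨(π.base '' (X.basicOpen h : Set X)ᶜ)ᶜ, hπC.isOpen_compl⟩
    have hyV' : y ∈ V' := by
      rintro ⟨x, hxC, hxy⟩
      exact hxC (hFh hxy)
    have hpre : π ⁻¹ᵁ V' ≤ X.basicOpen h' := by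
      intro x hx
      by_contra hxh
      exact hx ⟨x, hxh, rfl⟩
    let i : V' ⟶ ⊤ := homOfLE le_top
    have hunit : IsUnit (X.presheaf.map ((Opens.map π.base).map i).op h') := by
      have e : X.presheaf.map ((Opens.map π.base).map i).op h' =
          X.presheaf.map (homOfLE hpre).op
            (X.presheaf.map (homOfLE (X.basicOpen_le h')).op h') := by
        rw [← CommRingCat.comp_apply, ← Functor.map_comp]
        rfl
      rw [e]
      exact (X.toRingedSpace.isUnit_res_basicOpen h').map (X.presheaf.map (homOfLE hpre).op).hom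
    have h3 : IsUnit (N.norm V' (X.presheaf.map ((Opens.map π.base).map i).op h')) :=
      hunit.map (N.norm V')
    rw [← N.norm_res i h'] at h3
    rw [Y.mem_basicOpen g y trivial]
    have h4 := h3.map (Y.presheaf.germ V' y hyV').hom
    rwa [TopCat.Presheaf.germ_res_apply] at h4
  have hC : Y.basicOpen g ≤ V := by
    intro y' hy'
    obtain ⟨x', rfl⟩ := π.surjective y'
    exact hhV (hA x' hy')
  refine ⟨g, ?_, hB⟩
  have := hV.basicOpen (Y.presheaf.map (homOfLE le_top : V ⟶ ⊤).op g)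
  rwa [Scheme.basicOpen_res, inf_eq_right.mpr hC] at this

theorem isQuasiAffine_of_norm (π : X ⟶ Y) [IsFinite π] {d : ℕ} (hN : Nrm.HasNorm π d)
    [X.IsQuasiAffine] : Y.IsQuasiAffine := by
  obtain ⟨N⟩ := hN
  haveI := surjective_of_norm π N
  exact isQuasiAffine_of_weakNorm π (WeakNorm.ofNorm N)

end H16QAff
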