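import Mathlib
import Groth.Prelude.Def_Fitting
import Groth.Prelude.Def_Pi1
import Groth.Agent.Lib.Helper22.NormalSections

/-!
# A norm for finite surjective morphisms of integral schemes with normal target (helper16)

The field norm `N_{K(X)/K(Y)}` maps sections over `π⁻¹U` to rational functions on `Y` which are integral over
all local rings of `U`, hence sections over `U` by normality.
-/

set_option autoImplicit false
universe u
open CategoryTheory CategoryTheory.Limits AlgebraicGeometry TopologicalSpace Opposite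

namespace H16INorm

/-! ### Algebra -/

section Alg
open Polynomial IntermediateField

theorem isUnit_of_isUnit_norm_minpoly {R K L S : Type*} [CommRing R] [IsDomain R]
    [IsIntegrallyClosed R] [Field K] [Algebra R K] [IsFractionRing R K] [Field L] [Algebra K L]
    [FiniteDimensional K L] [Algebra R L] [IsScalarTower R K L] [CommRing S]
    (σ : R →+* S) (ι : S →+* L) (hι : Function.Injective ι) (hισ : ι.comp σ = algebraMap R L)
    (b : S) (hint : IsIntegral R (ι b)) (t : R) (ht : algebraMap R K t = Algebra.norm K (ι b))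
    (hu : IsUnit t) : IsUnit b := by
  have hKint : IsIntegral K (ι b) := hint.tower_top
  have hP : minpoly K (ι b) = (minpoly R (ι b)).map (algebraMap R K) :=
    minpoly.isIntegrallyClosed_eq_field_fractions' K hint
  have hn : Algebra.norm K (ι b) =
      ((-1) ^ (adjoin.powerBasis hKint).dim * algebraMap R K ((minpoly R (ι b)).coeff 0)) ^
        Module.finrank K⟮ι b⟯ L := by
    rw [Algebra.norm_eq_norm_adjoin K (ι b), ← adjoin.powerBasis_gen hKint,
      Algebra.PowerBasis.norm_gen_eq_coeff_zero_minpoly, adjoin.powerBasis_gen hKint, minpoly_gen,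
      hP, coeff_map]
  have hm : Module.finrank K⟮ι b⟯ L ≠ 0 := (Module.finrank_pos).ne'
  have ht2 : t = ((-1) ^ (adjoin.powerBasis hKint).dim * (minpoly R (ι b)).coeff 0) ^
      Module.finrank K⟮ι b⟯ L := by
    apply IsFractionRing.injective R K
    rw [ht, hn]
    simp only [map_pow, map_mul, map_neg, map_one]
  rw [ht2, isUnit_pow_iff hm] at hu
  have ha0 : IsUnit ((minpoly R (ι b)).coeff 0) := (IsUnit.mul_iff.mp hu).2
  have hroot : Polynomial.eval₂ (algebraMap R L) (ι b) (minpoly R (ι b)) = 0 := by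
    rw [← Polynomial.aeval_def]
    exact minpoly.aeval R (ι b)
  rw [← Polynomial.divX_mul_X_add (minpoly R (ι b)), Polynomial.eval₂_add, Polynomial.eval₂_mul,
    Polynomial.eval₂_X, Polynomial.eval₂_C, ← hισ, ← Polynomial.hom_eval₂, RingHom.comp_apply,
    ← map_mul, ← map_add] at hroot
  have h0 := hι (hroot.trans (map_zero ι).symm)
  have h1 : Polynomial.eval₂ σ b (minpoly R (ι b)).divX * b = - σ ((minpoly R (ι b)).coeff 0) :=
    eq_neg_of_add_eq_zero_left h0
  have h2 : IsUnit (Polynomial.eval₂ σ b (minpoly R (ι b)).divX * b) := by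
    rw [h1]
    exact (ha0.map σ).neg
  exact isUnit_of_mul_isUnit_right h2

end Alg

/-! ### Function fields -/

variable {X Y : Scheme.{u}} (π : X ⟶ Y) [IsIntegral X] [IsIntegral Y]

theorem generic_mem_of_mem {U : Y.Opens} {y : Y} (hy : y ∈ U) : genericPoint Y ∈ U :=
  ((genericPoint_spec Y).mem_open_set_iff U.isOpen).mpr ⟨y, trivial, hy⟩

theorem eq_bot_of_generic_notMem {U : Y.Opens} (h : genericPoint Y ∉ U) : U = ⊥ := by
  ext x
  simp only [Opens.coe_bot, Set.mem_empty_iff_false, iff_false]
  exact fun hx => h (generic_mem_of_mem hx)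

theorem subsingleton_of_generic_notMem {U : Y.Opens} (h : genericPoint Y ∉ U) :
    Subsingleton Γ(Y, U) := by
  obtain rfl := eq_bot_of_generic_notMem h
  infer_instance

section
variable [Surjective π]

theorem map_generic_specializes : π.base (genericPoint X) ⤳ genericPoint Y := by
  rw [specializes_iff_mem_closure]
  have h1 : π.base '' closure {genericPoint X} ⊆ closure {π.base (genericPoint X)} := by
    have := image_closure_subset_closure_image (s := {genericPoint X}) π.continuous
    rwa [Set.image_singleton] at this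
  apply h1
  rw [(genericPoint_spec X).def]
  obtain ⟨x, hx⟩ := π.surjective (genericPoint Y)
  exact ⟨x, trivial, hx⟩

theorem mem_preimage_of_mem {U : Y.Opens} (h : genericPoint Y ∈ U) :
    genericPoint X ∈ π ⁻¹ᵁ U :=
  (map_generic_specializes π).mem_open U.isOpen h

/-- The inclusion of function fields. -/
noncomputable def kappa : Y.functionField →+* X.functionField :=
  ((Y.presheaf.stalkSpecializes (map_generic_specializes π)) ≫
    π.stalkMap (genericPoint X)).hom

theorem kappa_germ (U : Y.Opens) (hξ : genericPoint Y ∈ U) (hη : genericPoint X ∈ π ⁻¹ᵁ U)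
    (g : Γ(Y, U)) :
    kappa π (Y.presheaf.germ U (genericPoint Y) hξ g) =
      X.presheaf.germ (π ⁻¹ᵁ U) (genericPoint X) hη (π.app U g) := by
  have h : Y.presheaf.germ U (genericPoint Y) hξ ≫
      (Y.presheaf.stalkSpecializes (map_generic_specializes π) ≫ π.stalkMap (genericPoint X)) =
      π.app U ≫ X.presheaf.germ (π ⁻¹ᵁ U) (genericPoint X) hη := by
    rw [← Category.assoc, TopCat.Presheaf.germ_stalkSpecializes, Scheme.Hom.germ_stalkMap]
  exact ConcreteCategory.congr_hom h g

/-- `K(X)` as a `K(Y)`-algebra. -/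
@[reducible] noncomputable def algKL : Algebra Y.functionField X.functionField :=
  (kappa π).toAlgebra

/-- `K(X)` as an `O_{Y,y}`-algebra. -/
@[reducible] noncomputable def algOL (y : Y) : Algebra (Y.presheaf.stalk y) X.functionField :=
  ((kappa π).comp (algebraMap (Y.presheaf.stalk y) Y.functionField)).toAlgebra

/-- The norm of function fields. -/
noncomputable def nrmKL : X.functionField →* Y.functionField :=
  letI := algKL π
  Algebra.norm Y.functionField

theorem stalk_compat (x : X) :
    (algebraMap (X.presheaf.stalk x) X.functionField).comp (π.stalkMap x).hom =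
      (kappa π).comp (algebraMap (Y.presheaf.stalk (π.base x)) Y.functionField) := by
  ext a
  obtain ⟨V, hyV, g, rfl⟩ := TopCat.Presheaf.exists_germ_eq Y.presheaf a
  have hξV := generic_mem_of_mem hyV
  have hηV := mem_preimage_of_mem π hξV
  haveI : Nonempty V := ⟨⟨_, hyV⟩⟩
  haveI : Nonempty (π ⁻¹ᵁ V) := ⟨⟨x, hyV⟩⟩
  simp only [RingHom.comp_apply]
  have h1 : (π.stalkMap x).hom (Y.presheaf.germ V (π.base x) hyV g) =
      X.presheaf.germ (π ⁻¹ᵁ V) x hyV (π.app V g) :=
    Scheme.Hom.germ_stalkMap_apply π V x hyV g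
  rw [h1, Scheme.algebraMap_germ_eq_germToFunctionField,
    Scheme.algebraMap_germ_eq_germToFunctionField]
  exact (kappa_germ π V hξV hηV g).symm

variable [IsFinite π]

theorem isIntegral_germ (U : Y.Opens) (y : Y) (hy : y ∈ U) (hη : genericPoint X ∈ π ⁻¹ᵁ U)
    (s : Γ(X, π ⁻¹ᵁ U)) :
    letI := algOL π y
    IsIntegral (Y.presheaf.stalk y) (X.presheaf.germ (π ⁻¹ᵁ U) (genericPoint X) hη s) := by
  letI := algOL π y
  obtain ⟨_, ⟨V, hV : IsAffineOpen V, rfl⟩, hyV, hVU⟩ :=
    Y.isBasis_affineOpens.exists_subset_of_mem_open hy U.isOpen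
  let i : V ⟶ U := homOfLE hVU
  have hξV : genericPoint Y ∈ V := generic_mem_of_mem hyV
  have hηV : genericPoint X ∈ π ⁻¹ᵁ V := mem_preimage_of_mem π hξV
  obtain ⟨p, hp, hps⟩ := (π.finite_app V hV).to_isIntegral
    (X.presheaf.map ((Opens.map π.base).map i).op s)
  refine ⟨p.map (Y.presheaf.germ V y hyV).hom, hp.map _, ?_⟩
  rw [Polynomial.eval₂_map]
  have hcomp : (algebraMap (Y.presheaf.stalk y) X.functionField).comp
      (Y.presheaf.germ V y hyV).hom =
      (X.presheaf.germ (π ⁻¹ᵁ V) (genericPoint X) hηV).hom.comp (π.app V).hom := by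
    ext g
    haveI : Nonempty V := ⟨⟨y, hyV⟩⟩
    change kappa π (algebraMap (Y.presheaf.stalk y) Y.functionField
      (Y.presheaf.germ V y hyV g)) = _
    rw [Scheme.algebraMap_germ_eq_germToFunctionField]
    exact kappa_germ π V hξV hηV g
  rw [hcomp]
  have hℓ : X.presheaf.germ (π ⁻¹ᵁ U) (genericPoint X) hη s =
      X.presheaf.germ (π ⁻¹ᵁ V) (genericPoint X) hηV
        (X.presheaf.map ((Opens.map π.base).map i).op s) :=
    (TopCat.Presheaf.germ_res_apply X.presheaf ((Opens.map π.base).map i) (genericPoint X)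
      hηV s).symm
  rw [hℓ]
  change Polynomial.eval₂ _ ((X.presheaf.germ (π ⁻¹ᵁ V) (genericPoint X) hηV).hom _) p = 0
  rw [← Polynomial.hom_eval₂, hps, map_zero]

theorem finiteDimensional :
    letI := algKL π
    FiniteDimensional Y.functionField X.functionField := by
  letI := algKL π
  obtain ⟨_, ⟨V, hV : IsAffineOpen V, rfl⟩, hξV, -⟩ :=
    Y.isBasis_affineOpens.exists_subset_of_mem_open (Set.mem_univ (genericPoint Y)) isOpen_univ
  have hηV : genericPoint X ∈ π ⁻¹ᵁ V := mem_preimage_of_mem π hξV
  haveI : Nonempty V := ⟨⟨_, hξV⟩⟩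
  haveI : Nonempty (π ⁻¹ᵁ V) := ⟨⟨_, hηV⟩⟩
  letI algAB : Algebra Γ(Y, V) Γ(X, π ⁻¹ᵁ V) := (π.app V).hom.toAlgebra
  letI algAL : Algebra Γ(Y, V) X.functionField :=
    ((algebraMap Γ(X, π ⁻¹ᵁ V) X.functionField).comp
      (algebraMap Γ(Y, V) Γ(X, π ⁻¹ᵁ V))).toAlgebra
  haveI : IsScalarTower Γ(Y, V) Γ(X, π ⁻¹ᵁ V) X.functionField :=
    IsScalarTower.of_algebraMap_eq' rfl
  have hsq : ∀ g : Γ(Y, V), algebraMap Γ(Y, V) X.functionField g =
      kappa π (algebraMap Γ(Y, V) Y.functionField g) := fun g =>
    (kappa_germ π V hξV hηV g).symm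
  haveI : IsScalarTower Γ(Y, V) Y.functionField X.functionField :=
    IsScalarTower.of_algebraMap_eq' (RingHom.ext hsq)
  haveI : IsFractionRing Γ(Y, V) Y.functionField :=
    functionField_isFractionRing_of_isAffineOpen Y V hV
  haveI : IsFractionRing Γ(X, π ⁻¹ᵁ V) X.functionField :=
    functionField_isFractionRing_of_isAffineOpen X (π ⁻¹ᵁ V) (hV.preimage π)
  haveI : Module.Finite Γ(Y, V) Γ(X, π ⁻¹ᵁ V) := π.finite_app V hV
  haveI : IsDomain Γ(X, π ⁻¹ᵁ V) := inferInstance
  haveI : IsDomain Γ(Y, V) := inferInstance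
  have hinj : Function.Injective (algebraMap Γ(Y, V) Γ(X, π ⁻¹ᵁ V)) := by
    have h1 : Function.Injective ((algebraMap Γ(X, π ⁻¹ᵁ V) X.functionField) ∘
        (algebraMap Γ(Y, V) Γ(X, π ⁻¹ᵁ V))) := by
      intro g g' hgg
      have h2 : kappa π (algebraMap Γ(Y, V) Y.functionField g) =
          kappa π (algebraMap Γ(Y, V) Y.functionField g') := by
        rw [← hsq, ← hsq]
        exact hgg
      exact Y.germToFunctionField_injective V ((kappa π).injective h2)
    exact Function.Injective.of_comp h1
  haveI : FaithfulSMul Γ(Y, V) Γ(X, π ⁻¹ᵁ V) :=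
    (faithfulSMul_iff_algebraMap_injective _ _).mpr hinj
  exact Module.Finite.of_isLocalization Γ(Y, V) Γ(X, π ⁻¹ᵁ V) (nonZeroDivisors Γ(Y, V))

section Normal

variable (hY : Pi1.IsNormalScheme Y)
include hY

theorem exists_norm_section (U : Y.Opens) (hξ : genericPoint Y ∈ U) (s : Γ(X, π ⁻¹ᵁ U)) :
    ∃ t : Γ(Y, U), Y.presheaf.germ U (genericPoint Y) hξ t =
      nrmKL π (X.presheaf.germ (π ⁻¹ᵁ U) (genericPoint X) (mem_preimage_of_mem π hξ) s) := by
  haveI : Nonempty U := ⟨⟨_, hξ⟩⟩
  refine Groth.Agent.Lib.Helper22.NormalSections.exists_section_of_forall_mem_range U _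
    (fun y hy => ?_)
  letI := algKL π
  letI := algOL π y
  haveI : IsScalarTower (Y.presheaf.stalk y) Y.functionField X.functionField :=
    IsScalarTower.of_algebraMap_eq' rfl
  haveI := (hY y).2
  have hint := isIntegral_germ π U y hy (mem_preimage_of_mem π hξ) s
  have h2 : IsIntegral (Y.presheaf.stalk y) (Algebra.norm Y.functionField
      (X.presheaf.germ (π ⁻¹ᵁ U) (genericPoint X) (mem_preimage_of_mem π hξ) s)) :=
    Algebra.isIntegral_norm Y.functionField hint
  exact IsIntegrallyClosed.isIntegral_iff.mp h2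

open Classical in
/-- The norm on sections. -/
noncomputable def nU (U : Y.Opens) (s : Γ(X, π ⁻¹ᵁ U)) : Γ(Y, U) :=
  if h : genericPoint Y ∈ U then (exists_norm_section π hY U h s).choose else 1

theorem nU_spec (U : Y.Opens) (s : Γ(X, π ⁻¹ᵁ U)) (h : genericPoint Y ∈ U) :
    Y.presheaf.germ U (genericPoint Y) h (nU π hY U s) =
      nrmKL π (X.presheaf.germ (π ⁻¹ᵁ U) (genericPoint X) (mem_preimage_of_mem π h) s) := by
  unfold nU
  rw [dif_pos h]
  exact (exists_norm_section π hY U h s).choose_spec

theorem nU_one (U : Y.Opens) : nU π hY U 1 = 1 := by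
  by_cases h : genericPoint Y ∈ U
  · apply germ_injective_of_isIntegral Y (genericPoint Y) h
    rw [nU_spec π hY U 1 h, map_one, map_one, map_one]
  · haveI := subsingleton_of_generic_notMem h
    exact Subsingleton.elim _ _

theorem nU_mul (U : Y.Opens) (s s' : Γ(X, π ⁻¹ᵁ U)) :
    nU π hY U (s * s') = nU π hY U s * nU π hY U s' := by
  by_cases h : genericPoint Y ∈ U
  · apply germ_injective_of_isIntegral Y (genericPoint Y) h
    have e1 := nU_spec π hY U (s * s') h
    have e2 := nU_spec π hY U s h
    have e3 := nU_spec π hY U s' h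
    rw [map_mul, map_mul] at e1
    rw [map_mul, e1, e2, e3]
  · haveI := subsingleton_of_generic_notMem h
    exact Subsingleton.elim _ _

theorem nU_res {U V : Y.Opens} (i : V ⟶ U) (s : Γ(X, π ⁻¹ᵁ U)) :
    Y.presheaf.map i.op (nU π hY U s) =
      nU π hY V (X.presheaf.map ((Opens.map π.base).map i).op s) := by
  by_cases h : genericPoint Y ∈ V
  · apply germ_injective_of_isIntegral Y (genericPoint Y) h
    rw [TopCat.Presheaf.germ_res_apply, nU_spec π hY U s (i.le h), nU_spec π hY V _ h,
      TopCat.Presheaf.germ_res_apply]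
  · haveI := subsingleton_of_generic_notMem h
    exact Subsingleton.elim _ _

theorem nU_app (U : Y.Opens) (g : Γ(Y, U)) :
    letI := algKL π
    nU π hY U (π.app U g) = g ^ Module.finrank Y.functionField X.functionField := by
  letI := algKL π
  by_cases h : genericPoint Y ∈ U
  · apply germ_injective_of_isIntegral Y (genericPoint Y) h
    rw [nU_spec π hY U _ h, ← kappa_germ π U h, map_pow]
    exact Algebra.norm_algebraMap (Y.presheaf.germ U (genericPoint Y) h g)
  · haveI := subsingleton_of_generic_notMem h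
    exact Subsingleton.elim _ _

theorem nU_mem (U : Y.Opens) (s : Γ(X, π ⁻¹ᵁ U)) (x : X) (hx : π.base x ∈ U)
    (hs : X.presheaf.germ (π ⁻¹ᵁ U) x hx s ∈ IsLocalRing.maximalIdeal (X.presheaf.stalk x)) :
    Y.presheaf.germ U (π.base x) hx (nU π hY U s) ∈
      IsLocalRing.maximalIdeal (Y.presheaf.stalk (π.base x)) := by
  rw [IsLocalRing.mem_maximalIdeal, mem_nonunits_iff] at hs ⊢
  intro hu
  apply hs
  have hξ : genericPoint Y ∈ U := generic_mem_of_mem hx
  have hη := mem_preimage_of_mem π hξ
  haveI : Nonempty U := ⟨⟨_, hx⟩⟩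
  haveI : Nonempty (π ⁻¹ᵁ U) := ⟨⟨x, hx⟩⟩
  letI := algKL π
  letI := algOL π (π.base x)
  haveI : IsScalarTower (Y.presheaf.stalk (π.base x)) Y.functionField X.functionField :=
    IsScalarTower.of_algebraMap_eq' rfl
  haveI := (hY (π.base x)).2
  haveI := finiteDimensional π
  refine isUnit_of_isUnit_norm_minpoly (R := Y.presheaf.stalk (π.base x))
    (K := Y.functionField) (L := X.functionField)
    (π.stalkMap x).hom (algebraMap (X.presheaf.stalk x) X.functionField)
    (IsFractionRing.injective _ _) (stalk_compat π x) (X.presheaf.germ (π ⁻¹ᵁ U) x hx s) ?_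
    (Y.presheaf.germ U (π.base x) hx (nU π hY U s)) ?_ hu
  · rw [Scheme.algebraMap_germ_eq_germToFunctionField]
    exact isIntegral_germ π U (π.base x) hx hη s
  · rw [Scheme.algebraMap_germ_eq_germToFunctionField,
      Scheme.algebraMap_germ_eq_germToFunctionField]
    exact nU_spec π hY U s hξ

/-- **Norm for a finite surjective morphism onto a normal integral scheme.** -/
theorem hasNorm : ∃ d : ℕ, Nrm.HasNorm π d := by
  letI := algKL π
  haveI := finiteDimensional π
  refine ⟨Module.finrank Y.functionField X.functionField, ⟨?_⟩⟩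
  exact
    { one_le := Module.finrank_pos
      norm := fun U =>
        { toFun := nU π hY U
          map_one' := nU_one π hY U
          map_mul' := nU_mul π hY U }
      norm_res := fun i s => nU_res π hY i s
      norm_app := fun U g => nU_app π hY U g
      norm_mem := fun U s x hx hs => nU_mem π hY U s x hx hs }

end Normal

end

end H16INorm
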