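import Mathlib
import Groth.Prelude.Def_Fitting
import Groth.Prelude.Def_Pi1
import Groth.Agent.Lib.Helper16.Norm.QAff
import Groth.Agent.Lib.Helper16.Norm.FreeNorm
import Groth.Agent.Lib.Helper16.Norm.IntNorm
import Groth.Agent.Lib.Helper7.RedLib

/-!
# Quasi-affineness descends along finite locally free / finite onto normal (helper16)
-/

set_option autoImplicit false
universe u
open CategoryTheory CategoryTheory.Limits AlgebraicGeometry TopologicalSpace Opposite

namespace H16QAff

variable {X Y : Scheme.{u}}

/-- The glued norm of a finite locally free morphism (no rank condition) as a weak norm. -/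
noncomputable def weakNormOfFinLocFree (π : X ⟶ Y) [IsFinite π] [Flat π]
    [LocallyOfFinitePresentation π] : WeakNorm π where
  norm := H16FNorm.gluedHom π
  norm_res := fun i s => H16FNorm.glued_res π i s
  norm_mem := fun U s x hx hs => H16FNorm.glued_mem π U s x hx hs

theorem isQuasiAffine_of_normal (π : X ⟶ Y) [IsFinite π] [Surjective π] [X.IsQuasiAffine]
    [IsIntegral Y] (hY : Pi1.IsNormalScheme Y) : Y.IsQuasiAffine := by
  obtain ⟨x₀, hx₀⟩ := π.surjective (genericPoint Y)
  let C : TopologicalSpace.Closeds X := ⟨closure {x₀}, isClosed_closure⟩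
  let ι : (Scheme.IdealSheafData.vanishingIdeal C).subscheme ⟶ X :=
    (Scheme.IdealSheafData.vanishingIdeal C).subschemeι
  have hrange : Set.range ι.base = closure {x₀} := by
    rw [Scheme.IdealSheafData.range_subschemeι]
    exact Scheme.IdealSheafData.coe_support_vanishingIdeal _
  haveI : IrreducibleSpace (Scheme.IdealSheafData.vanishingIdeal C).subscheme := by
    have hemb := ι.isEmbedding
    let e : (Scheme.IdealSheafData.vanishingIdeal C).subscheme ≃ₜ ↥(closure ({x₀} : Set X)) :=
      hemb.toHomeomorph.trans (Homeomorph.setCongr hrange)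
    haveI : IrreducibleSpace ↥(closure ({x₀} : Set X)) :=
      Subtype.irreducibleSpace isIrreducible_singleton.closure
    exact e.irreducibleSpace_iff.mpr inferInstance
  haveI : IsReduced (Scheme.IdealSheafData.vanishingIdeal C).subscheme :=
    Groth.Agent.Lib.Helper7.isReduced_vanishingIdeal_subscheme C
  haveI : IsIntegral (Scheme.IdealSheafData.vanishingIdeal C).subscheme :=
    isIntegral_of_irreducibleSpace_of_isReduced _
  haveI : (Scheme.IdealSheafData.vanishingIdeal C).subscheme.IsQuasiAffine :=
    Scheme.IsQuasiAffine.of_isAffineHom ι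
  haveI : IsFinite (ι ≫ π) := inferInstance
  haveI : Surjective (ι ≫ π) := by
    refine ⟨fun y => ?_⟩
    have hcl : IsClosed (Set.range (ι ≫ π).base) := by
      rw [← Set.image_univ]
      exact (ι ≫ π).isClosedMap _ isClosed_univ
    have hmem : genericPoint Y ∈ Set.range (ι ≫ π).base := by
      have h1 : x₀ ∈ Set.range ι.base := by
        rw [hrange]
        exact subset_closure rfl
      obtain ⟨x', hx'⟩ := h1
      refine ⟨x', ?_⟩
      show π.base (ι.base x') = _
      rw [hx', hx₀]
    have h2 : closure {genericPoint Y} ⊆ Set.range (ι ≫ π).base :=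
      hcl.closure_subset_iff.mpr (Set.singleton_subset_iff.mpr hmem)
    rw [(genericPoint_spec Y).def] at h2
    exact h2 trivial
  obtain ⟨d, hN⟩ := H16INorm.hasNorm (ι ≫ π) hY
  exact isQuasiAffine_of_norm (ι ≫ π) hN

end H16QAff
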