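import Mathlib
import Groth.Prelude.Def_Frob
import Groth.Prelude.Def_Fitting

/-!
# A norm for `X_red ⟶ X` in characteristic `p` (helper16)

For a Noetherian scheme `X` with `p = 0`, the `p^e`-power Frobenius `F^e : X ⟶ X` kills the nilradical
for `e ≫ 0`, hence factors through `X_red`; the factorization gives a norm of degree `p^e` for the closed
immersion `X_red ⟶ X`.
-/

set_option autoImplicit false
universe u
open CategoryTheory CategoryTheory.Limits AlgebraicGeometry TopologicalSpace Opposite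

namespace H16Norm
open FrobSch

/-! ### Nilpotency bounds -/

theorem nilradical_pow_eq_bot_of_isLocalization {R S : Type*} [CommRing R] [CommRing S] [Algebra R S]
    (M : Submonoid R) [IsLocalization M S] (k : ℕ) (hk : (nilradical R) ^ k = ⊥) :
    (nilradical S) ^ k = ⊥ := by
  have h1 : nilradical S = (nilradical R).map (algebraMap R S) := by
    have := IsLocalization.map_radical M S (⊥ : Ideal R)
    rw [Ideal.map_bot] at this
    exact this.symm
  rw [h1, ← Ideal.map_pow, hk, Ideal.map_bot]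

theorem exists_pow_bound (X : Scheme.{u}) [IsNoetherian X] :
    ∃ K : ℕ, ∀ (x : X) (a : X.presheaf.stalk x), IsNilpotent a → a ^ K = 0 := by
  classical
  have hloc : ∀ x : X, ∃ (U : X.Opens) (k : ℕ), x ∈ U ∧
      ∀ y ∈ U, ∀ a : X.presheaf.stalk y, IsNilpotent a → a ^ k = 0 := by
    intro x
    obtain ⟨_, ⟨U, hU : IsAffineOpen U, rfl⟩, hxU, -⟩ :=
      X.isBasis_affineOpens.exists_subset_of_mem_open (Set.mem_univ x) isOpen_univ
    haveI : IsNoetherianRing Γ(X, U) := IsLocallyNoetherian.component_noetherian ⟨U, hU⟩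
    obtain ⟨k, hk⟩ := IsNoetherianRing.isNilpotent_nilradical Γ(X, U)
    rw [Ideal.zero_eq_bot] at hk
    refine ⟨U, k, hxU, fun y hy a ha => ?_⟩
    letI := X.presheaf.algebra_section_stalk ⟨y, hy⟩
    haveI := hU.isLocalization_stalk ⟨y, hy⟩
    have h2 := nilradical_pow_eq_bot_of_isLocalization (S := X.presheaf.stalk y)
      (hU.primeIdealOf ⟨y, hy⟩).asIdeal.primeCompl k hk
    have h3 : a ^ k ∈ (nilradical (X.presheaf.stalk y)) ^ k :=
      Ideal.pow_mem_pow (mem_nilradical.mpr ha) k
    rw [h2] at h3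
    exact (Submodule.mem_bot _).mp h3
  choose U k hxU hk using hloc
  obtain ⟨t, ht⟩ := CompactSpace.elim_nhds_subcover (fun x => (U x : Set X))
    (fun x => (U x).2.mem_nhds (hxU x))
  refine ⟨t.sup k, fun y a ha => ?_⟩
  have hy : y ∈ ⋃ x ∈ t, (U x : Set X) := by rw [ht]; trivial
  obtain ⟨x, hxt, hyx⟩ := Set.mem_iUnion₂.mp hy
  exact pow_eq_zero_of_le (Finset.le_sup hxt) (hk x y hyx a ha)

/-! ### The `p^e`-power Frobenius -/

/-- `r ↦ r ^ (p ^ e)` as a ring endomorphism of a ring in which `p = 0`. -/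
def powHomE (p e : ℕ) [Fact p.Prime] (R : Type u) [CommRing R] (h : (p : R) = 0) : R →+* R :=
  { powMonoidHom (p ^ e) with
    map_zero' := zero_pow (pow_ne_zero e (Fact.out : p.Prime).ne_zero)
    map_add' := fun a b => by
      rcases subsingleton_or_nontrivial R with hR | hR
      · exact Subsingleton.elim _ _
      · haveI : CharP R p := (CharP.charP_iff_prime_eq_zero Fact.out).2 h
        exact add_pow_char_pow a b p e }

@[simp] theorem powHomE_apply (p e : ℕ) [Fact p.Prime] (R : Type u) [CommRing R] (h : (p : R) = 0)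
    (r : R) : powHomE p e R h r = r ^ (p ^ e) := rfl

section Frobenius

variable (X : Scheme.{u}) (p : ℕ) [Fact p.Prime] [IsCharP X p] (e : ℕ)

def frobAppE : X.presheaf ⟶ X.presheaf where
  app U := CommRingCat.ofHom (powHomE p e Γ(X, U.unop) (natCast_eq_zero_app X p U.unop))
  naturality U V i := by
    ext s
    simp [map_pow]

noncomputable def frobShE : X.toSheafedSpace ⟶ X.toSheafedSpace :=
  InducedCategory.homMk { base := 𝟙 _, c := frobAppE X p e }

theorem isLocalHom_frobShE (x : X) : IsLocalHom ((frobShE X p e).hom.stalkMap x).hom := by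
  constructor
  intro t ht
  obtain ⟨U, hxU, s, rfl⟩ := X.presheaf.exists_germ_eq (x := x) t
  have h := PresheafedSpace.stalkMap_germ_apply (frobShE X p e).hom U x hxU s
  erw [h] at ht
  change IsUnit (X.presheaf.germ U x hxU (s ^ (p ^ e))) at ht
  rw [map_pow] at ht
  exact (isUnit_pow_iff (pow_ne_zero e (Fact.out : p.Prime).ne_zero)).mp ht

/-- The `e`-fold absolute Frobenius `X ⟶ X`: identity on points, `s ↦ s ^ (p ^ e)` on sections. -/
noncomputable def frobE : X ⟶ X :=
  ⟨LocallyRingedSpace.homMk (frobShE X p e) (isLocalHom_frobShE X p e)⟩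

@[simp] theorem frobE_base : (frobE X p e).base = 𝟙 _ := rfl
@[simp] theorem frobE_apply (x : X) : frobE X p e x = x := rfl
@[simp] theorem frobE_preimage (U : X.Opens) : frobE X p e ⁻¹ᵁ U = U := rfl
@[simp] theorem frobE_app (U : X.Opens) (s : Γ(X, U)) : (frobE X p e).app U s = s ^ (p ^ e) := rfl

end Frobenius

end H16Norm

namespace H16Norm
open FrobSch

section Lift

variable {Z X : Scheme.{u}} (p e : ℕ) [Fact p.Prime] [IsCharP X p]
  (ι : Z ⟶ X) (g : X ⟶ Z) (hg : g ≫ ι = frobE X p e)

include hg in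
theorem le_preimage (U : X.Opens) : U ≤ g ⁻¹ᵁ (ι ⁻¹ᵁ U) := by
  rw [← Scheme.Hom.comp_preimage, hg]
  exact le_rfl

include hg in
theorem lift_apply (hι : Function.Injective ι.base) (x : Z) : g.base (ι.base x) = x := by
  apply hι
  have := congrArg (fun f : X ⟶ X => f.base (ι.base x)) hg
  exact this

theorem appLE_congr {A B : Scheme.{u}} {f f' : A ⟶ B} (h : f = f') (U : B.Opens) (V : A.Opens)
    (e : V ≤ f ⁻¹ᵁ U) : f.appLE U V e = f'.appLE U V (h ▸ e) := by
  subst h; rfl

/-- A section `g` of `ι` up to the `p^e`-Frobenius gives a norm of degree `p^e` for `ι`. -/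
noncomputable def normOfLift (hι : Function.Injective ι.base) : Nrm.NormOfDegree ι (p ^ e) where
  one_le := Nat.one_le_pow _ _ (Fact.out : p.Prime).pos
  norm U := ((g.appLE (ι ⁻¹ᵁ U) U (le_preimage p e ι g hg U)).hom : _ →+* _)
  norm_res := by
    intro U V i s
    have h1 := Scheme.Hom.appLE_map g (le_preimage p e ι g hg U) i.op
    have h2 := Scheme.Hom.map_appLE g (le_preimage p e ι g hg V) ((Opens.map ι.base).map i).op
    have h1' := ConcreteCategory.congr_hom h1 s
    have h2' := ConcreteCategory.congr_hom h2 s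
    exact h1'.trans h2'.symm
  norm_app := by
    intro U t
    have h1 : ι.app U ≫ g.appLE (ι ⁻¹ᵁ U) U (le_preimage p e ι g hg U) =
        (g ≫ ι).appLE U U (le_preimage p e ι g hg U) := (Scheme.Hom.comp_appLE g ι U U _).symm
    have h2 := appLE_congr hg U U (le_preimage p e ι g hg U)
    have h3 : (frobE X p e).appLE U U (hg ▸ le_preimage p e ι g hg U) = (frobE X p e).app U :=
      ((frobE X p e).app_eq_appLE (U := U)).symm
    have h4 := ConcreteCategory.congr_hom (h1.trans (h2.trans h3)) t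
    exact h4
  norm_mem := by
    intro U s x hx hs
    rw [IsLocalRing.mem_maximalIdeal, mem_nonunits_iff] at hs ⊢
    rw [← Z.mem_basicOpen s x hx] at hs
    intro hu
    apply hs
    have h1 : ι.base x ∈ X.basicOpen ((g.appLE (ι ⁻¹ᵁ U) U (le_preimage p e ι g hg U)).hom s) :=
      (X.mem_basicOpen _ (ι.base x) hx).mpr hu
    have h2 : X.basicOpen ((g.appLE (ι ⁻¹ᵁ U) U (le_preimage p e ι g hg U)).hom s) =
        U ⊓ g ⁻¹ᵁ (Z.basicOpen s) := by
      rw [Scheme.Hom.appLE, CommRingCat.comp_apply, Scheme.basicOpen_res, Scheme.preimage_basicOpen]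
    rw [h2] at h1
    have h3 : g.base (ι.base x) ∈ Z.basicOpen s := h1.2
    rwa [lift_apply p e ι g hg hι] at h3

end Lift

/-- **Norm for the reduction in characteristic `p`.** -/
theorem hasNorm_red (X : Scheme.{u}) [IsNoetherian X] (p : ℕ) (hp : p.Prime)
    (hpX : (p : Γ(X, ⊤)) = 0) :
    ∃ e : ℕ, 0 < e ∧ Nrm.HasNorm X.nilradical.subschemeι (p ^ e) := by
  haveI : Fact p.Prime := ⟨hp⟩
  haveI : IsCharP X p := ⟨hpX⟩
  obtain ⟨K, hK⟩ := exists_pow_bound X
  refine ⟨K + 1, Nat.succ_pos K, ?_⟩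
  have hKle : K ≤ p ^ (K + 1) :=
    ((Nat.lt_succ_self K).trans (Nat.lt_pow_self hp.one_lt)).le
  have hsec : ∀ (U : X.Opens) (n : Γ(X, U)), IsNilpotent n → n ^ (p ^ (K + 1)) = 0 := by
    intro U n hn
    refine TopCat.Presheaf.section_ext X.sheaf U _ _ fun x hx => ?_
    change X.presheaf.germ U x hx (n ^ p ^ (K + 1)) = X.presheaf.germ U x hx 0
    rw [map_pow, map_zero]
    exact pow_eq_zero_of_le hKle (hK x _ (hn.map _))
  have hker : X.nilradical.subschemeι.ker ≤ (frobE X p (K + 1)).ker := by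
    rw [Scheme.IdealSheafData.ker_subschemeι]
    refine Scheme.IdealSheafData.le_ofIdeals_iff.mpr fun U n hn => ?_
    rw [RingHom.mem_ker]
    change n ^ (p ^ (K + 1)) = 0
    refine hsec U.1 n ?_
    have h1 : n ∈ ((⊥ : X.IdealSheafData).ideal U).radical := hn
    rw [Scheme.IdealSheafData.ideal_bot] at h1
    exact mem_nilradical.mp h1
  have hg := IsClosedImmersion.lift_fac X.nilradical.subschemeι (frobE X p (K + 1)) hker
  exact ⟨normOfLift p (K + 1) X.nilradical.subschemeι _ hg
    X.nilradical.subschemeι.isClosedEmbedding.injective⟩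

end H16Norm
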